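import Mathlib.RingTheory.Smooth.Local
import Mathlib.RingTheory.Smooth.Locus
import Mathlib.RingTheory.LocalRing.ResidueField.Ideal
import Mathlib.RingTheory.Kaehler.Basic

/-!
# The Jacobian criterion for quotients of smooth algebras at a prime
-/

set_option autoImplicit false
set_option linter.style.haveILetI false

universe u

open TensorProduct Algebra

noncomputable section

namespace Groth.Agent.SmoothQuot7

variable {R A : Type u} [CommRing R] [CommRing A] [Algebra R A] [IsNoetherianRing R] [Algebra.FiniteType R A]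
  (I q : Ideal A) [q.IsPrime]

/-- The ideal in the local ring. -/
abbrev locIdeal : Ideal (Localization.AtPrime q) := I.map (algebraMap A (Localization.AtPrime q))

/-- `κ ⊗ I A_q → κ ⊗ Ω`, `c ⊗ g ↦ c ⊗ dg`. -/
structure Jac where
  /-- The underlying map. -/
  toFun : q.ResidueField ⊗[Localization.AtPrime q] (locIdeal I q) →ₗ[q.ResidueField] q.ResidueField ⊗[A] Ω[A⁄R]
  apply_tmul : ∀ (g : A) (hg : algebraMap A (Localization.AtPrime q) g ∈ locIdeal I q),
    toFun (1 ⊗ₜ ⟨_, hg⟩) = (1 : q.ResidueField) ⊗ₜ[A] KaehlerDifferential.D R A g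

set_option maxHeartbeats 400000 in
/-- The criterion: smooth iff the Jacobian map is injective. -/
theorem exists_jac [Algebra.IsSmoothAt R q] (P : Ideal (A ⧸ I)) [P.IsPrime]
    (hP : P.comap (Ideal.Quotient.mk I) = q) :
    ∃ θ : Jac (R := R) I q, Algebra.IsSmoothAt R P ↔ Function.Injective θ.toFun := by
  let B := Localization.AtPrime q
  let S := Localization.AtPrime P
  let K := q.ResidueField
  let ρ : B →+* S := Localization.localRingHom q P (Ideal.Quotient.mk I) hP.symm
  letI : Algebra B S := ρ.toAlgebra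
  have hρ : ∀ a : A, ρ (algebraMap A B a) = algebraMap (A ⧸ I) S (Ideal.Quotient.mk I a) := fun a =>
    Localization.localRingHom_to_map _ _ _ _ a
  haveI : IsScalarTower A B S := IsScalarTower.of_algebraMap_eq fun a => (hρ a).symm
  haveI : IsScalarTower R B S := IsScalarTower.of_algebraMap_eq fun r => by
    rw [IsScalarTower.algebraMap_apply R A B, ← IsScalarTower.algebraMap_apply A B S,
      ← IsScalarTower.algebraMap_apply R A S]
  have hsurj : Function.Surjective (algebraMap B S) := by
    intro x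
    obtain ⟨x, ⟨s, hs⟩, rfl⟩ := IsLocalization.exists_mk'_eq P.primeCompl x
    obtain ⟨x, rfl⟩ := Ideal.Quotient.mk_surjective x
    obtain ⟨s, rfl⟩ := Ideal.Quotient.mk_surjective s
    refine ⟨IsLocalization.mk' B x (⟨s, fun h => hs (by rw [← hP] at h; exact h)⟩ : q.primeCompl), ?_⟩
    exact Localization.localRingHom_mk' _ _ _ _ _ _
  have hker : RingHom.ker (algebraMap B S) = locIdeal I q := by
    refine le_antisymm (fun x hx => ?_) (Ideal.map_le_iff_le_comap.2 fun a ha => ?_)
    · obtain ⟨a, ⟨s, hs⟩, rfl⟩ := IsLocalization.exists_mk'_eq q.primeCompl x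
      have h : ρ (IsLocalization.mk' B a (⟨s, hs⟩ : q.primeCompl)) = 0 := hx
      rw [Localization.localRingHom_mk', IsLocalization.mk'_eq_zero_iff] at h
      obtain ⟨⟨t, ht⟩, h⟩ := h
      obtain ⟨t, rfl⟩ := Ideal.Quotient.mk_surjective t
      rw [← map_mul, Ideal.Quotient.eq_zero_iff_mem] at h
      rw [IsLocalization.mk'_mem_map_algebraMap_iff]
      exact ⟨t, fun h' => ht (by rw [← hP] at h'; exact h'), h⟩
    · rw [Ideal.mem_comap, RingHom.mem_ker]
      show ρ (algebraMap A B a) = 0
      rw [hρ, Ideal.Quotient.eq_zero_iff_mem.2 ha, map_zero]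
  haveI : IsNoetherianRing A := Algebra.FiniteType.isNoetherianRing R A
  haveI : IsNoetherianRing B := IsLocalization.isNoetherianRing q.primeCompl B inferInstance
  haveI : EssFiniteType A B := .of_isLocalization _ q.primeCompl
  haveI : EssFiniteType R B := .comp _ A _
  haveI : Module.Free B Ω[B⁄R] := Module.free_of_flat_of_isLocalRing
  haveI : FormallyEtale A B := .of_isLocalization q.primeCompl
  have hres : ∀ b : B, algebraMap B K b = IsLocalRing.residue B b := fun _ => rfl
  let ψ : S →+* K := RingHom.liftOfSurjective (algebraMap B S) hsurj ⟨algebraMap B K, fun x hx => by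
    rw [RingHom.mem_ker, hres, IsLocalRing.residue_eq_zero_iff]
    intro hu
    exact not_isUnit_zero (M₀ := S) ((RingHom.mem_ker.1 hx) ▸ hu.map (algebraMap B S))⟩
  letI : Algebra S K := ψ.toAlgebra
  have hψ : ∀ b : B, ψ (algebraMap B S b) = algebraMap B K b := fun b =>
    RingHom.liftOfSurjective_comp_apply _ _ _ _
  haveI : IsScalarTower B S K := IsScalarTower.of_algebraMap_eq fun b => (hψ b).symm
  have h₃ : IsLocalRing.maximalIdeal S ≤ RingHom.ker (algebraMap S K) := fun x hx => by
    obtain ⟨b, rfl⟩ := hsurj x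
    rw [RingHom.mem_ker]
    show ψ (algebraMap B S b) = 0
    rw [hψ, hres, IsLocalRing.residue_eq_zero_iff]
    exact fun hu => hx (hu.map (algebraMap B S))
  have hfg : (RingHom.ker (algebraMap B S)).FG := IsNoetherian.noetherian _
  let e : K ⊗[B] Ω[B⁄R] ≃ₗ[K] K ⊗[A] Ω[A⁄R] :=
    AlgebraTensorModule.congr (LinearEquiv.refl K K)
        (KaehlerDifferential.tensorKaehlerEquivOfFormallyEtale R A B).symm ≪≫ₗ
      AlgebraTensorModule.cancelBaseChange A B K K Ω[A⁄R]
  let c : K ⊗[B] (locIdeal I q) ≃ₗ[K] K ⊗[B] RingHom.ker (algebraMap B S) :=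
    AlgebraTensorModule.congr (LinearEquiv.refl K K) (LinearEquiv.ofEq _ _ hker.symm)
  refine ⟨⟨e.toLinearMap ∘ₗ KaehlerDifferential.cotangentComplexBaseChange R S B K ∘ₗ c.toLinearMap, fun g hg => ?_⟩, ?_⟩
  · show AlgebraTensorModule.cancelBaseChange A B K K Ω[A⁄R]
      (AlgebraTensorModule.congr (LinearEquiv.refl K K)
        (KaehlerDifferential.tensorKaehlerEquivOfFormallyEtale R A B).symm
        ((1 : K) • ((1 : K) ⊗ₜ[B] KaehlerDifferential.D R B (algebraMap A B g)))) = _
    rw [one_smul, AlgebraTensorModule.congr_tmul, LinearEquiv.refl_apply,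
      KaehlerDifferential.tensorKaehlerEquivOfFormallyEtale_symm_D_algebraMap,
      AlgebraTensorModule.cancelBaseChange_tmul, one_smul]
  · refine (FormallySmooth.iff_injective_cotangentComplexBaseChange (R := R) (S := S) B K hsurj hfg h₃).trans ?_
    show _ ↔ Function.Injective (e ∘ KaehlerDifferential.cotangentComplexBaseChange R S B K ∘ c)
    exact ((e.comp_injective _).trans (c.injective_comp _)).symm

/-- Elements of the ideal span `κ ⊗ I A_q`. -/
theorem span_eq_top {s : Set A} (hs : locIdeal I q = Ideal.span (algebraMap A (Localization.AtPrime q) '' s)) :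
    Submodule.span q.ResidueField {z : q.ResidueField ⊗[Localization.AtPrime q] (locIdeal I q) |
      ∃ g ∈ s, ∃ hg, z = 1 ⊗ₜ ⟨algebraMap A (Localization.AtPrime q) g, hg⟩} = ⊤ := by
  let G : Set (q.ResidueField ⊗[Localization.AtPrime q] (locIdeal I q)) :=
    {z | ∃ g ∈ s, ∃ hg, z = 1 ⊗ₜ ⟨algebraMap A (Localization.AtPrime q) g, hg⟩}
  have key : ∀ (x : Localization.AtPrime q) (hx : x ∈ locIdeal I q),
      ((1 : q.ResidueField) ⊗ₜ[Localization.AtPrime q] (⟨x, hx⟩ : locIdeal I q)) ∈ Submodule.span q.ResidueField G := by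
    intro x hx
    have hx' : x ∈ Ideal.span (algebraMap A (Localization.AtPrime q) '' s) := hs ▸ hx
    induction hx' using Submodule.span_induction with
    | mem x hxs => obtain ⟨g, hg, rfl⟩ := hxs; exact Submodule.subset_span ⟨g, hg, hx, rfl⟩
    | zero =>
      rw [show (⟨0, hx⟩ : locIdeal I q) = 0 from rfl, tmul_zero]
      exact zero_mem _
    | add x y hx' hy' ihx ihy =>
      rw [show (⟨x + y, hx⟩ : locIdeal I q) = ⟨x, hs ▸ hx'⟩ + ⟨y, hs ▸ hy'⟩ from rfl, tmul_add]
      exact add_mem (ihx _) (ihy _)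
    | smul a x hx' ihx =>
      rw [show (⟨a • x, hx⟩ : locIdeal I q) = a • ⟨x, hs ▸ hx'⟩ from rfl, tmul_smul,
        ← IsScalarTower.algebraMap_smul q.ResidueField a]
      exact Submodule.smul_mem _ _ (ihx _)
  refine top_le_iff.1 fun z _ => ?_
  induction z with
  | zero => exact zero_mem _
  | add a b ha hb => exact add_mem (ha trivial) (hb trivial)
  | tmul c j =>
    rw [show c ⊗ₜ[Localization.AtPrime q] j = c • ((1 : q.ResidueField) ⊗ₜ[Localization.AtPrime q] j) by
      rw [smul_tmul', smul_eq_mul, mul_one]]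
    exact Submodule.smul_mem _ _ (key j.1 j.2)

/-- **Jacobian criterion at a prime.** -/
theorem isSmoothAt_iff [Algebra.IsSmoothAt R q] (P : Ideal (A ⧸ I)) [P.IsPrime]
    (hP : P.comap (Ideal.Quotient.mk I) = q) :
    Algebra.IsSmoothAt R P ↔ ∃ s : Finset A, (↑s : Set A) ⊆ (I : Set A) ∧
      locIdeal I q = Ideal.span (algebraMap A (Localization.AtPrime q) '' (↑s : Set A)) ∧
      LinearIndependent q.ResidueField
        (fun g : ↥s => (1 : q.ResidueField) ⊗ₜ[A] KaehlerDifferential.D R A (g : A)) := by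
  classical
  obtain ⟨θ, hθ⟩ := exists_jac (R := R) I q P hP
  rw [hθ]
  let K := q.ResidueField
  let B := Localization.AtPrime q
  constructor
  · intro hinj
    let G : Set (K ⊗[B] (locIdeal I q)) :=
      {z | ∃ g ∈ (I : Set A), ∃ hg, z = 1 ⊗ₜ ⟨algebraMap A B g, hg⟩}
    have hG : Submodule.span K G = ⊤ := span_eq_top I q (s := (I : Set A)) rfl
    obtain ⟨b, hbG, hbs, hbli⟩ := exists_linearIndependent K G
    haveI : IsNoetherianRing A := Algebra.FiniteType.isNoetherianRing R A
    haveI : IsNoetherianRing B := IsLocalization.isNoetherianRing q.primeCompl B inferInstance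
    haveI : Module.Finite B (locIdeal I q) := Module.Finite.of_fg (IsNoetherian.noetherian _)
    haveI : Module.Finite K (K ⊗[B] (locIdeal I q)) := Module.Finite.base_change _ _ _
    haveI : Finite b := hbli.finite
    haveI := Fintype.ofFinite b
    choose g hgI hg hgz using fun z : b => hbG z.2
    have hginj : Function.Injective g := fun z z' h => by
      apply Subtype.ext
      rw [hgz z, hgz z']
      congr 1
      exact Subtype.ext (congrArg (algebraMap A B) h)
    have hs_sub : (↑(Finset.univ.image g) : Set A) ⊆ (I : Set A) := by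
      intro x hx; obtain ⟨z, -, rfl⟩ := Finset.mem_image.1 hx; exact hgI z
    refine ⟨Finset.univ.image g, hs_sub, ?_, ?_⟩
    · let J' : Submodule B (locIdeal I q) := Submodule.span B (Set.range fun z : b => ⟨algebraMap A B (g z), hg z⟩)
      suffices hJ : J' = ⊤ by
        refine le_antisymm (fun x hx => ?_) (Ideal.span_le.2 fun x hx => ?_)
        · have h : (⟨x, hx⟩ : locIdeal I q) ∈ J' := hJ ▸ trivial
          have h' := Submodule.apply_mem_span_image_of_mem_span (locIdeal I q).subtype h
          rw [← Set.range_comp] at h'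
          refine Submodule.span_mono ?_ h'
          rintro _ ⟨z, rfl⟩
          exact ⟨g z, Finset.mem_image_of_mem g (Finset.mem_univ z), rfl⟩
        · obtain ⟨a, ha, rfl⟩ := hx
          exact Ideal.mem_map_of_mem _ (hs_sub ha)
      rw [← Submodule.Quotient.subsingleton_iff, ← IsLocalRing.subsingleton_tensorProduct (R := B)]
      show Subsingleton (K ⊗[B] (↥(locIdeal I q) ⧸ J'))
      let π : K ⊗[B] (locIdeal I q) →ₗ[K] K ⊗[B] (↥(locIdeal I q) ⧸ J') := LinearMap.baseChange K J'.mkQ
      have hπ : π = 0 := by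
        refine LinearMap.ext_on (hbs.trans hG) fun z hz => ?_
        have h0 : J'.mkQ (⟨algebraMap A B (g ⟨z, hz⟩), hg ⟨z, hz⟩⟩ : locIdeal I q) = 0 :=
          (Submodule.Quotient.mk_eq_zero J').2 (Submodule.subset_span ⟨⟨z, hz⟩, rfl⟩)
        rw [show z = _ from hgz ⟨z, hz⟩, LinearMap.zero_apply]
        show LinearMap.baseChange K J'.mkQ _ = 0
        rw [LinearMap.baseChange_tmul, h0, tmul_zero]
      refine ⟨fun x y => ?_⟩
      obtain ⟨x, rfl⟩ := LinearMap.lTensor_surjective K J'.mkQ_surjective x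
      obtain ⟨y, rfl⟩ := LinearMap.lTensor_surjective K J'.mkQ_surjective y
      exact (LinearMap.congr_fun hπ x).trans (LinearMap.congr_fun hπ y).symm
    · have h := hbli.map' θ.toFun (LinearMap.ker_eq_bot.2 hinj)
      have he : ∀ z : b, θ.toFun z.1 = (1 : K) ⊗ₜ[A] KaehlerDifferential.D R A (g z) := fun z => by
        rw [hgz z, θ.apply_tmul]
      let e : b ≃ ↥(Finset.univ.image g) := Equiv.ofBijective
        (fun z => ⟨g z, Finset.mem_image_of_mem g (Finset.mem_univ z)⟩)
        ⟨fun z z' h => hginj (congrArg Subtype.val h), fun x => by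
          obtain ⟨z, -, hz⟩ := Finset.mem_image.1 x.2; exact ⟨z, Subtype.ext hz⟩⟩
      refine (linearIndependent_equiv e).1 ?_
      have h' : LinearIndependent K (fun z : b => (1 : K) ⊗ₜ[A] KaehlerDifferential.D R A (g z)) := by
        rw [← funext he]; exact h
      exact h'
  · rintro ⟨s, hsI, hspan, hli⟩
    have hmem : ∀ g : ↥s, algebraMap A B g ∈ locIdeal I q := fun g => Ideal.mem_map_of_mem _ (hsI g.2)
    let Φ : (↥s → K) →ₗ[K] K ⊗[B] (locIdeal I q) :=
      Fintype.linearCombination K fun g : ↥s => (1 : K) ⊗ₜ[B] (⟨algebraMap A B g, hmem g⟩ : locIdeal I q)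
    have hΦ : Function.Surjective Φ := by
      rw [← LinearMap.range_eq_top, Fintype.range_linearCombination, ← top_le_iff, ← span_eq_top I q hspan]
      refine Submodule.span_mono ?_
      rintro _ ⟨g, hg, h, rfl⟩
      exact ⟨⟨g, hg⟩, rfl⟩
    intro x y hxy
    obtain ⟨a, rfl⟩ := hΦ x
    obtain ⟨b, rfl⟩ := hΦ y
    refine congrArg Φ (funext (Fintype.linearIndependent_iffₛ.1 hli a b ?_))
    have hv : ∀ g : ↥s, θ.toFun ((1 : K) ⊗ₜ[B] (⟨algebraMap A B g, hmem g⟩ : locIdeal I q)) =
        (1 : K) ⊗ₜ[A] KaehlerDifferential.D R A (g : A) := fun g => θ.apply_tmul g.1 (hmem g)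
    simpa [Φ, Fintype.linearCombination_apply, map_sum, hv] using hxy

end Groth.Agent.SmoothQuot7
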